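import Groth.Agent.QuotSch.Univ

/-!
# Quotient map + equalizer on sections = effective epimorphism
-/

set_option backward.isDefEq.respectTransparency.types false

universe u

open AlgebraicGeometry CategoryTheory CategoryTheory.Limits
open Groth.Agent.QuotSch (hom_ext_of_surjective_of_app_injective appLE_congr_hom)

namespace Groth.Agent.EquEpi

variable {X Y Z : Scheme.{u}} {p : X ⟶ Y} (hq : Topology.IsQuotientMap p.base)
  (hi : ∀ U : Y.Opens, Function.Injective (p.app U).hom)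
  (heq : ∀ (U : Y.Opens) (s' : Γ(X, p ⁻¹ᵁ U)), (SGA1.overlapFstApp p U).hom s' = (SGA1.overlapSndApp p U).hom s' →
      s' ∈ Set.range (p.app U).hom)

include hi in
theorem morphismRestrict_app_injective (U : Y.Opens) (V : U.toScheme.Opens) :
    Function.Injective ((p ∣_ U).app V).hom := by
  rw [morphismRestrict_app]
  intro s t h
  exact hi (U.ι ''ᵁ V) ((ConcreteCategory.bijective_of_isIso _).1 h)

include hq in
theorem morphismRestrict_surjective (U : Y.Opens) : Function.Surjective (p ∣_ U).base := by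
  intro y
  obtain ⟨x, hx⟩ := hq.surjective y.1
  refine ⟨⟨x, show p.base x ∈ U from hx ▸ y.2⟩, Subtype.ext ?_⟩
  exact (congr($(morphismRestrict_ι p U) ⟨x, show p.base x ∈ U from hx ▸ y.2⟩)).trans hx

include hq hi in
/-- Two morphisms out of an open of `Y` agree if they agree after pulling back to `X`. -/
theorem hom_ext {W : Scheme.{u}} (j : W ⟶ Y) [IsOpenImmersion j] {a b : W ⟶ Z}
    (h : ∀ (T : Scheme.{u}) (t : T ⟶ X) (w : T ⟶ W), t ≫ p = w ≫ j → w ≫ a = w ≫ b) : a = b := by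
  rw [← cancel_epi j.isoOpensRange.inv]
  refine hom_ext_of_surjective_of_app_injective (p ∣_ j.opensRange) (morphismRestrict_surjective hq _)
    (morphismRestrict_app_injective hi _) ?_
  have := h _ (p ⁻¹ᵁ j.opensRange).ι ((p ∣_ j.opensRange) ≫ j.isoOpensRange.inv) (by
    rw [Category.assoc, ← morphismRestrict_ι p j.opensRange]
    congr 1
    rw [Iso.eq_inv_comp]
    exact IsOpenImmersion.isoOfRangeEq_hom_fac _ _ _)
  simpa only [Category.assoc] using this

theorem mem_of_eq {h : X ⟶ Z} (hh : pullback.fst p p ≫ h = pullback.snd p p ≫ h) {x x' : X}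
    (e : p.base x = p.base x') : h.base x = h.base x' := by
  obtain ⟨z, h1, h2⟩ := Scheme.Pullback.exists_preimage_pullback x x' e
  rw [← h1, ← h2]
  exact congr($hh z)

/-- The open of points of `Y` all of whose preimages map into `V`. -/
noncomputable def imageOpen (h : X ⟶ Z) (hh : pullback.fst p p ≫ h = pullback.snd p p ≫ h) (V : Z.Opens) :
    Y.Opens :=
  ⟨p.base '' (h.base ⁻¹' (V : Set Z)), hq.isOpen_preimage.mp (by
    convert (h ⁻¹ᵁ V).isOpen using 1
    ext x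
    exact ⟨fun ⟨x', hx', e⟩ => show h.base x ∈ V from mem_of_eq hh e ▸ hx', fun hx => ⟨x, hx, rfl⟩⟩)⟩

include hq in
theorem mem_imageOpen {h : X ⟶ Z} (hh : pullback.fst p p ≫ h = pullback.snd p p ≫ h)
    (V : Z.Opens) (x : X) : p.base x ∈ imageOpen hq h hh V ↔ h.base x ∈ V :=
  ⟨fun ⟨x', hx', e⟩ => mem_of_eq hh e ▸ hx', fun hx => ⟨x, hx, rfl⟩⟩

include hq hi heq in
/-- The local factorization over an affine open of the target. -/
theorem exists_local {h : X ⟶ Z} (hh : pullback.fst p p ≫ h = pullback.snd p p ≫ h)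
    (V : Z.Opens) (hV : IsAffineOpen V) :
    ∃ f : (imageOpen hq h hh V).toScheme ⟶ Z, ∀ (T : Scheme.{u}) (t : T ⟶ X) (w : T ⟶ imageOpen hq h hh V),
      t ≫ p = w ≫ (imageOpen hq h hh V).ι → w ≫ f = t ≫ h := by
  let U := imageOpen hq h hh V
  have hle : p ⁻¹ᵁ U ≤ h ⁻¹ᵁ V := fun x hx => (mem_imageOpen hq hh V x).mp hx
  have hmem : ∀ t, (h.appLE V (p ⁻¹ᵁ U) hle).hom t ∈ (p.app U).hom.range := fun t => by
    refine heq U _ ?_
    change (pullback.fst p p).app (p ⁻¹ᵁ U) (h.appLE V (p ⁻¹ᵁ U) hle t) =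
      (pullback.snd p p).appLE (p ⁻¹ᵁ U) _ _ (h.appLE V (p ⁻¹ᵁ U) hle t)
    rw [← Scheme.Hom.appLE_eq_app, ← CommRingCat.comp_apply, ← CommRingCat.comp_apply,
      Scheme.Hom.appLE_comp_appLE, Scheme.Hom.appLE_comp_appLE, appLE_congr_hom hh]
  let e : Γ(Y, U) ≃+* (p.app U).hom.range :=
    RingEquiv.ofBijective (p.app U).hom.rangeRestrict
      ⟨fun a b hab => hi U (congrArg Subtype.val hab), RingHom.rangeRestrict_surjective _⟩
  let φ : Γ(Z, V) ⟶ Γ(Y, U) :=
    CommRingCat.ofHom (e.symm.toRingHom.comp ((h.appLE V (p ⁻¹ᵁ U) hle).hom.codRestrict _ hmem))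
  have hφ : φ ≫ p.app U = h.appLE V (p ⁻¹ᵁ U) hle := CommRingCat.hom_ext <| RingHom.ext fun t =>
    congrArg Subtype.val (e.apply_symm_apply ((h.appLE V (p ⁻¹ᵁ U) hle).hom.codRestrict _ hmem t))
  refine ⟨U.toSpecΓ ≫ Spec.map φ ≫ hV.fromSpec, fun T t w htw => ?_⟩
  have key : (p ∣_ U) ≫ U.toSpecΓ ≫ Spec.map φ ≫ hV.fromSpec = (p ⁻¹ᵁ U).ι ≫ h := by
    rw [← Scheme.Hom.resLE_eq_morphismRestrict, ← Category.assoc, ← Scheme.Opens.toSpecΓ_SpecMap_appLE,
      Category.assoc, Scheme.Hom.appLE_eq_app, ← Spec.map_comp_assoc, hφ, ← Category.assoc,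
      Scheme.Opens.toSpecΓ_SpecMap_appLE, Category.assoc, ← hV.isoSpec_hom, IsAffineOpen.fromSpec,
      Iso.hom_inv_id_assoc, Scheme.Hom.resLE_comp_ι]
  obtain ⟨t', ht₁, ht₂⟩ := (isPullback_morphismRestrict p U).exists_lift w t htw.symm |> fun ⟨l, a, b⟩ =>
    (⟨l, a, b⟩ : ∃ l : T ⟶ _, l ≫ (p ∣_ U) = w ∧ l ≫ (p ⁻¹ᵁ U).ι = t)
  rw [← ht₁, Category.assoc, key, ← Category.assoc, ht₂]

include hq hi heq in
theorem existsUnique_desc (h : X ⟶ Z) (hh : pullback.fst p p ≫ h = pullback.snd p p ≫ h) :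
    ∃! h' : Y ⟶ Z, p ≫ h' = h := by
  choose f hf using fun V : Z.affineOpens => exists_local hq hi heq hh V.1 V.2
  let U : Z.affineOpens → Y.Opens := fun V => imageOpen hq h hh V.1
  have hcov : TopologicalSpace.IsOpenCover U := by
    refine TopologicalSpace.IsOpenCover.mk (top_le_iff.mp fun y _ => ?_)
    obtain ⟨x, rfl⟩ := hq.surjective y
    obtain ⟨V, hV, hxV, -⟩ := exists_isAffineOpen_mem_and_subset (x := h.base x) (U := ⊤) trivial
    exact TopologicalSpace.Opens.mem_iSup.mpr ⟨⟨V, hV⟩, (mem_imageOpen hq hh V x).mpr hxV⟩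
  let 𝒰 := Y.openCoverOfIsOpenCover U hcov
  have hglue : ∀ V V' : Z.affineOpens, pullback.fst (U V).ι (U V').ι ≫ f V = pullback.snd _ _ ≫ f V' := by
    intro V V'
    refine hom_ext hq hi (pullback.fst (U V).ι (U V').ι ≫ (U V).ι) fun T t w htw => ?_
    rw [← Category.assoc, ← Category.assoc, hf V T t _ (by simpa using htw),
      hf V' T t _ (by rw [htw, pullback.condition, Category.assoc])]
  refine ⟨𝒰.glueMorphisms f hglue, ?_, fun h' hh' => ?_⟩
  · refine Scheme.Cover.hom_ext (𝒰.pullback₁ p) _ _ fun V => ?_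
    change pullback.fst p (U V).ι ≫ p ≫ _ = pullback.fst p (U V).ι ≫ h
    rw [pullback.condition_assoc, ← hf V _ (pullback.fst p (U V).ι) (pullback.snd _ _) pullback.condition]
    exact congrArg _ (𝒰.ι_glueMorphisms f hglue V)
  · refine Scheme.Cover.hom_ext 𝒰 _ _ fun V => ?_
    rw [𝒰.ι_glueMorphisms f hglue V]
    refine hom_ext hq hi (U V).ι fun T t w htw => ?_
    rw [hf V T t w htw, ← hh', ← Category.assoc t, htw, Category.assoc]
    rfl

include hq hi heq in
theorem effectiveEpi_of_equalizer : EffectiveEpi p := by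
  have key := fun (W : Scheme.{u}) (e : X ⟶ W)
      (h : ∀ {T : Scheme.{u}} (g₁ g₂ : T ⟶ X), g₁ ≫ p = g₂ ≫ p → g₁ ≫ e = g₂ ≫ e) =>
    existsUnique_desc hq hi heq e (h _ _ pullback.condition)
  exact ⟨⟨{
    desc := fun e h => (key _ e h).choose
    fac := fun e h => (key _ e h).choose_spec.1
    uniq := fun e h m hm => (key _ e h).choose_spec.2 m hm }⟩⟩

end Groth.Agent.EquEpi
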